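import Mathlib
import Groth.Agent.Lib.KEuler6.Serre

/-!
Samuel functions of primary ideals of a Noetherian local ring.
-/

set_option autoImplicit false
universe u

open Filter Polynomial Topology
open Groth.Agent.HilbSam (hs)

namespace Groth.Agent.Mult6

variable {A : Type u} [CommRing A]

theorem degreeLT_of_natDegree_le {q : ℚ[X]} {d : ℕ} (h : q.natDegree ≤ d) : q ∈ degreeLT ℚ (d + 1) :=
  mem_degreeLT.2 (degree_le_natDegree.trans_lt (Nat.cast_lt.2 (Nat.lt_succ_of_le h)))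

theorem natDegree_le_of_degreeLT {q : ℚ[X]} {d : ℕ} (h : q ∈ degreeLT ℚ (d + 1)) : q.natDegree ≤ d := by
  rcases eq_or_ne q 0 with rfl | h0
  · simp
  · exact Nat.lt_add_one_iff.1 ((natDegree_lt_iff_degree_lt h0).2 (mem_degreeLT.1 h))

variable [IsNoetherianRing A] [IsLocalRing A]

theorem isFiniteLength_of_pow_le (M : Type u) [AddCommGroup M] [Module A M] [Module.Finite A M] {I : Ideal A}
    {N : ℕ} (hN : IsLocalRing.maximalIdeal A ^ N ≤ I) : IsFiniteLength A (M ⧸ I • (⊤ : Submodule A M)) :=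
  HilbSam.isFiniteLength_of_support fun p hp => by
    rw [Module.support_quotient] at hp
    have h : IsLocalRing.maximalIdeal A ≤ p.asIdeal := fun a ha =>
      p.2.mem_of_pow_mem N (hp.2 (hN (Ideal.pow_mem_pow ha N)))
    exact (IsLocalRing.maximalIdeal.isMaximal A).eq_of_le p.2.ne_top h ▸ IsLocalRing.maximalIdeal.isMaximal A

/-- A primary ideal contains powers of a system of parameters of any module of dimension at most `d`. -/
theorem exists_params_mem (M : Type u) [AddCommGroup M] [Module A M] [Module.Finite A M] {d : ℕ}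
    (hd : Module.supportDim A M ≤ (d : WithBot ℕ∞)) {I : Ideal A} {N : ℕ}
    (hN : IsLocalRing.maximalIdeal A ^ N ≤ I) :
    ∃ y : Fin d → A, (∀ i, y i ∈ I) ∧ IsFiniteLength A (M ⧸ Ideal.span (Set.range y) • (⊤ : Submodule A M)) := by
  obtain ⟨x, hx, hfl⟩ := HilbSam.exists_parameters_module (A := A) (M := M) hd
  refine ⟨fun i => x i ^ N, fun i => hN (Ideal.pow_mem_pow ?_ N),
    HilbSam.isFiniteLength_of_support fun p hp => ?_⟩
  · rw [← IsLocalRing.ringJacobson_eq_maximalIdeal]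
    exact hx i
  · rw [Module.support_quotient] at hp
    refine HilbSam.isMaximal_of_mem_support hfl ?_
    rw [Module.support_quotient]
    refine ⟨hp.1, Ideal.span_le.2 ?_⟩
    rintro _ ⟨i, rfl⟩
    exact p.2.mem_of_pow_mem N (hp.2 (Ideal.subset_span ⟨i, rfl⟩))

/-- The Samuel function of a primary ideal is eventually a polynomial of degree at most the dimension. -/
theorem exists_hs_poly (M : Type u) [AddCommGroup M] [Module A M] [Module.Finite A M] {d : ℕ}
    (hd : Module.supportDim A M ≤ (d : WithBot ℕ∞)) {I : Ideal A} {N : ℕ}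
    (hN : IsLocalRing.maximalIdeal A ^ N ≤ I) :
    ∃ q : ℚ[X], q ∈ degreeLT ℚ (d + 1) ∧ ∀ᶠ n : ℕ in atTop, (hs I M n : ℚ) = q.eval (n : ℚ) := by
  obtain ⟨y, hy, hfl⟩ := exists_params_mem M hd hN
  obtain ⟨_, q, -, hqe⟩ := HilbSam.exists_hs_poly (isFiniteLength_of_pow_le M hN)
  obtain ⟨p, hp, N', hpe⟩ := HilbSam.polyLT_hs y hfl
  refine ⟨q, HilbSam.degreeLT_of_abs_le hp ?_, hqe⟩
  filter_upwards [hqe, eventually_ge_atTop N'] with n hn hn'
  rw [← hn, ← hpe n hn', abs_of_nonneg (by positivity), abs_of_nonneg (by positivity), Nat.cast_le]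
  refine ENat.toNat_le_toNat ?_ (HilbSam.length_quotient_pow_ne_top hfl n)
  have hle : Ideal.span (Set.range y) ^ n • (⊤ : Submodule A M) ≤ I ^ n • ⊤ :=
    Submodule.smul_mono_left (Ideal.pow_right_mono (Ideal.span_le.2 (Set.range_subset_iff.2 hy)) n)
  exact Module.length_le_of_surjective (Submodule.factor hle) (Submodule.factor_surjective hle)

theorem smul_top_self (J : Ideal A) : Module.length A (A ⧸ J • (⊤ : Submodule A A)) = Module.length A (A ⧸ J) := by
  have e : J • (⊤ : Submodule A A) = J := by rw [smul_eq_mul, Ideal.mul_top]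
  exact (Submodule.quotEquivOfEq _ _ e).length_eq

theorem hs_self (I : Ideal A) (n : ℕ) : hs I A n = (Module.length A (A ⧸ I ^ n)).toNat := by
  rw [HilbSam.hs, smul_top_self]

theorem length_quotient_ne_top {I : Ideal A} {N : ℕ} (hN : IsLocalRing.maximalIdeal A ^ N ≤ I) :
    Module.length A (A ⧸ I) ≠ ⊤ := by
  rw [← smul_top_self, Module.length_ne_top_iff]
  exact isFiniteLength_of_pow_le A hN

/-- The Samuel function of `I` on the ring, with its normalised limit. -/
theorem exists_samuel {d : ℕ} (hd : ringKrullDim A = (d : WithBot ℕ∞)) {I : Ideal A} {N : ℕ}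
    (hN : IsLocalRing.maximalIdeal A ^ N ≤ I) :
    ∃ q : ℚ[X], q ∈ degreeLT ℚ (d + 1) ∧
      (∀ᶠ n : ℕ in atTop, ((Module.length A (A ⧸ I ^ n)).toNat : ℚ) = q.eval (n : ℚ)) ∧
      Tendsto (fun n : ℕ => ((Module.length A (A ⧸ I ^ n)).toNat : ℝ) / (n : ℝ) ^ d) atTop
        (𝓝 ((q.coeff d : ℚ) : ℝ)) := by
  obtain ⟨q, hq, hqe⟩ := exists_hs_poly (A := A) A (d := d)
    (by rw [Module.supportDim_self_eq_ringKrullDim, hd]) hN
  simp only [hs_self] at hqe
  refine ⟨q, hq, hqe, (KEuler6.tendsto_eval_div_pow hq).congr' ?_⟩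
  filter_upwards [hqe] with n hn
  rw [← hn, Rat.cast_natCast]

/-- The multiplicity of the local ring is positive. -/
theorem exists_samuel_maximal {d : ℕ} (hd : ringKrullDim A = (d : WithBot ℕ∞)) :
    ∃ q : ℚ[X], q ∈ degreeLT ℚ (d + 1) ∧ 0 < q.coeff d ∧
      (∀ᶠ n : ℕ in atTop, ((Module.length A (A ⧸ IsLocalRing.maximalIdeal A ^ n)).toNat : ℚ) = q.eval (n : ℚ)) ∧
      Tendsto (fun n : ℕ => ((Module.length A (A ⧸ IsLocalRing.maximalIdeal A ^ n)).toNat : ℝ) / (n : ℝ) ^ d) atTop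
        (𝓝 ((q.coeff d : ℚ) : ℝ)) := by
  obtain ⟨q, hq, hqe, ht⟩ := exists_samuel hd (N := 1) (I := IsLocalRing.maximalIdeal A) (pow_one _).le
  refine ⟨q, hq, ?_, hqe, ht⟩
  have h0 : (0 : ℝ) ≤ ((q.coeff d : ℚ) : ℝ) := ge_of_tendsto' ht fun n => by positivity
  refine lt_of_le_of_ne (by exact_mod_cast h0) fun hc => ?_
  cases d with
  | zero =>
    have hq0 : q = 0 := by
      rw [Polynomial.eq_C_of_natDegree_le_zero (natDegree_le_of_degreeLT hq), ← hc, C_0]
    obtain ⟨n, hn, hn'⟩ := (hqe.and (eventually_ge_atTop 1)).exists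
    rw [hq0, eval_zero, Nat.cast_eq_zero] at hn
    have hne : Module.length A (A ⧸ IsLocalRing.maximalIdeal A ^ n) ≠ ⊤ := length_quotient_ne_top le_rfl
    haveI : Subsingleton (A ⧸ IsLocalRing.maximalIdeal A ^ n) :=
      Module.length_eq_zero_iff.1 ((ENat.toNat_eq_zero.1 hn).resolve_right hne)
    have := Ideal.Quotient.subsingleton_iff.1 ‹Subsingleton (A ⧸ IsLocalRing.maximalIdeal A ^ n)›
    exact (IsLocalRing.maximalIdeal.isMaximal A).ne_top (top_le_iff.1 (this ▸ Ideal.pow_le_self (by omega)))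
  | succ d =>
    have hq' : q ∈ degreeLT ℚ (d + 1) := by
      refine mem_degreeLT.2 ((degree_lt_iff_coeff_zero q (d + 1)).2 fun i hi => ?_)
      rcases eq_or_lt_of_le hi with rfl | hlt
      · exact hc.symm
      · exact coeff_eq_zero_of_natDegree_lt (lt_of_le_of_lt (natDegree_le_of_degreeLT hq) hlt)
    have hfl := isFiniteLength_of_pow_le A (N := 1) (I := IsLocalRing.maximalIdeal A) (pow_one _).le
    have h := (HilbSam.supportDim_le_iff d).2 (HilbSam.dimLE_of_hs (M := A) (I := IsLocalRing.maximalIdeal A)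
      (IsLocalRing.ringJacobson_eq_maximalIdeal (R := A)).ge hfl hq' (by simpa [hs_self] using hqe))
    rw [Module.supportDim_self_eq_ringKrullDim, hd, Nat.cast_le] at h
    omega

theorem tendsto_shift {q : ℚ[X]} {d : ℕ} (hq : q ∈ degreeLT ℚ (d + 1)) (r : ℕ) :
    Tendsto (fun n : ℕ => (((q.eval ((n + r : ℕ) : ℚ) - q.eval (n : ℚ) : ℚ) : ℝ)) / (n : ℝ) ^ d) atTop (𝓝 0) := by
  have h := HilbSam.comp_shift_sub_mem hq (r : ℚ)
  have hq' : q.comp (X + C (r : ℚ)) - q ∈ degreeLT ℚ (d + 1) :=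
    degreeLT_mono (Nat.le_succ d) (by rw [← neg_sub]; exact neg_mem h)
  have hc : (q.comp (X + C (r : ℚ)) - q).coeff d = 0 :=
    (degree_lt_iff_coeff_zero _ d).1 (mem_degreeLT.1 (by rw [← neg_sub]; exact neg_mem h)) d le_rfl
  have := KEuler6.tendsto_eval_div_pow hq'
  rw [hc, Rat.cast_zero] at this
  refine this.congr fun n => ?_
  simp

end Groth.Agent.Mult6
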