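import Mathlib
import Groth.Agent.Lib.KEuler6.Rel

/-!
Monomial ideals in power series rings.
-/

set_option autoImplicit false
set_option linter.unusedSectionVars false
universe u

open MvPowerSeries
open Groth.Agent.HilbSam (relLen relLen_trans)

namespace Groth.Agent.Mult6

variable {σ : Type} {k : Type u} [Field k]

/-- Power series without coefficients on a set of exponents closed downwards. -/
noncomputable def noCoeff (D : Set (σ →₀ ℕ)) (hD : IsLowerSet D) : Ideal (MvPowerSeries σ k) where
  carrier := {f | ∀ d ∈ D, coeff d f = 0}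
  add_mem' hf hg d hd := by rw [map_add, hf d hd, hg d hd, add_zero]
  zero_mem' d _ := map_zero _
  smul_mem' c f hf d hd := by
    classical
    rw [smul_eq_mul, MvPowerSeries.coeff_mul]
    refine Finset.sum_eq_zero fun p hp => ?_
    rw [hf p.2 (hD (by rw [← Finset.HasAntidiagonal.mem_antidiagonal.1 hp]; exact le_add_self) hd), mul_zero]

theorem mem_noCoeff {D : Set (σ →₀ ℕ)} {hD : IsLowerSet D} {f : MvPowerSeries σ k} :
    f ∈ noCoeff D hD ↔ ∀ d ∈ D, coeff d f = 0 := Iff.rfl

theorem noCoeff_congr {D D' : Set (σ →₀ ℕ)} {hD : IsLowerSet D} {hD' : IsLowerSet D'} (h : D = D') :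
    noCoeff (k := k) D hD = noCoeff D' hD' := by
  subst h; rfl

theorem mem_span_of_coeff : ∀ (G : List (σ →₀ ℕ)) (f : MvPowerSeries σ k),
    (∀ α, (∀ g ∈ G, ¬ g ≤ α) → coeff α f = 0) →
    f ∈ Ideal.span {m : MvPowerSeries σ k | ∃ g ∈ G, m = monomial g (1 : k)}
  | [], f, h => by
    rw [show f = 0 from MvPowerSeries.ext fun α => h α (by simp)]
    exact zero_mem _
  | g :: G, f, h => by
    classical
    let q : MvPowerSeries σ k := fun β => coeff (g + β) f
    have hq : ∀ α, coeff α (monomial g (1 : k) * q) = if g ≤ α then coeff α f else 0 := fun α => by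
      rw [MvPowerSeries.coeff_monomial_mul]
      split_ifs with hle
      · rw [one_mul]
        show coeff (g + (α - g)) f = _
        rw [add_tsub_cancel_of_le hle]
      · rfl
    have h' : f - monomial g (1 : k) * q ∈ Ideal.span {m : MvPowerSeries σ k | ∃ g ∈ G, m = monomial g (1 : k)} := by
      refine mem_span_of_coeff G _ fun α hα => ?_
      rw [map_sub, hq]
      split_ifs with hle
      · exact sub_self _
      · rw [sub_zero]
        refine h α fun g' hg' => ?_
        rcases List.mem_cons.1 hg' with rfl | hg'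
        · exact hle
        · exact hα g' hg'
    have e : f = monomial g (1 : k) * q + (f - monomial g (1 : k) * q) := by ring
    rw [e]
    refine add_mem (Ideal.mul_mem_right _ _ (Ideal.subset_span ⟨g, List.mem_cons_self, rfl⟩)) ?_
    refine Ideal.span_mono ?_ h'
    rintro m ⟨g', hg', hm⟩
    exact ⟨g', List.mem_cons_of_mem _ hg', hm⟩

theorem span_eq_noCoeff {G : List (σ →₀ ℕ)} {D : Set (σ →₀ ℕ)} {hD : IsLowerSet D}
    (hdis : ∀ g ∈ G, g ∉ D) (hcov : ∀ α, α ∉ D → ∃ g ∈ G, g ≤ α) :
    Ideal.span {m : MvPowerSeries σ k | ∃ g ∈ G, m = monomial g (1 : k)} = noCoeff D hD := by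
  classical
  refine le_antisymm (Ideal.span_le.2 ?_) fun f hf => mem_span_of_coeff G f fun α hα => hf α ?_
  · rintro _ ⟨g, hg, rfl⟩ d hd
    rw [coeff_monomial, if_neg]
    rintro rfl
    exact hdis d hg hd
  · by_contra hαD
    obtain ⟨g, hg, hle⟩ := hcov α hαD
    exact hα g hg hle

theorem length_quotient_noCoeff : ∀ (n : ℕ) (S : Finset (σ →₀ ℕ)), S.card = n →
    ∀ hS : IsLowerSet (S : Set (σ →₀ ℕ)),
    Module.length (MvPowerSeries σ k) (MvPowerSeries σ k ⧸ noCoeff (k := k) (S : Set (σ →₀ ℕ)) hS) = (n : ℕ∞) := by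
  classical
  intro n
  induction n with
  | zero =>
    intro S hS hl
    have : noCoeff (k := k) (S : Set (σ →₀ ℕ)) hl = ⊤ := by
      refine eq_top_iff.2 fun f _ d hd => ?_
      rw [Finset.card_eq_zero.1 hS] at hd
      simp at hd
    rw [this, Nat.cast_zero, Module.length_eq_zero_iff]
    infer_instance
  | succ n ih =>
    intro S hS hl
    obtain ⟨d, hdS, hmax⟩ := S.exists_maximal (Finset.card_pos.1 (by omega))
    have hl' : IsLowerSet ((S.erase d : Finset (σ →₀ ℕ)) : Set (σ →₀ ℕ)) := by
      intro a b hba ha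
      rw [Finset.coe_erase, Set.mem_diff, Set.mem_singleton_iff] at ha ⊢
      refine ⟨hl hba ha.1, fun hbd => ha.2 ?_⟩
      subst hbd
      exact le_antisymm (hmax ha.1 hba) hba
    have hcard : (S.erase d).card = n := by rw [Finset.card_erase_of_mem hdS]; omega
    set J := noCoeff (k := k) (S : Set (σ →₀ ℕ)) hl
    set J' := noCoeff (k := k) ((S.erase d : Finset (σ →₀ ℕ)) : Set (σ →₀ ℕ)) hl'
    have hle : J ≤ J' := fun f hf x hx => hf x (Finset.mem_of_mem_erase hx)
    have hone : relLen J J' = 1 := by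
      rw [HilbSam.relLen_eq_quotient, Module.length_eq_one_iff]
      have hcoef : ∀ c : k, ∀ y ∈ J', ∀ x ∈ S, coeff x (MvPowerSeries.C c * y) = c * coeff x y := fun c y _ x _ =>
        MvPowerSeries.coeff_C_mul x y c
      rw [isSimpleModule_iff_toSpanSingleton_surjective]
      refine ⟨?_, fun y hy z => ?_⟩
      · refine Submodule.Quotient.nontrivial_iff.2 fun h => ?_
        have hm : monomial d (1 : k) ∈ J' := fun x hx => by
          rw [coeff_monomial, if_neg]
          rintro rfl
          exact absurd hx (Finset.notMem_erase x S)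
        have h1 : (⟨monomial d (1 : k), hm⟩ : J') ∈ Submodule.comap J'.subtype J := by rw [h]; exact Submodule.mem_top
        have h2 : coeff d (monomial d (1 : k)) = 0 := h1 d hdS
        rw [coeff_monomial, if_pos rfl] at h2
        exact one_ne_zero h2
      · obtain ⟨⟨y, hy'⟩, rfl⟩ := Submodule.Quotient.mk_surjective _ y
        obtain ⟨⟨z, hz'⟩, rfl⟩ := Submodule.Quotient.mk_surjective _ z
        have hyd : coeff d y ≠ 0 := fun h0 => hy ((Submodule.Quotient.mk_eq_zero _).2 fun x hx => by
          rcases eq_or_ne x d with rfl | hxd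
          · exact h0
          · exact hy' x (Finset.mem_erase.2 ⟨hxd, hx⟩))
        refine ⟨MvPowerSeries.C (coeff d z / coeff d y), ?_⟩
        rw [LinearMap.toSpanSingleton_apply, ← Submodule.Quotient.mk_smul]
        refine (Submodule.Quotient.eq _).2 fun x hx => ?_
        show coeff x (MvPowerSeries.C (coeff d z / coeff d y) * y - z) = 0
        rw [map_sub, hcoef _ y hy' x hx]
        rcases eq_or_ne x d with rfl | hxd
        · rw [div_mul_cancel₀ _ hyd, sub_self]
        · rw [hy' x (Finset.mem_erase.2 ⟨hxd, hx⟩), hz' x (Finset.mem_erase.2 ⟨hxd, hx⟩), mul_zero, sub_self]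
    rw [HilbSam.length_quotient_eq hle, hone, ih _ hcard hl', Nat.cast_succ, add_comm]

end Groth.Agent.Mult6
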