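import Mathlib
import Groth.Agent.Lib.Mult6.MonoPS
import Groth.Agent.Lib.Mult6.Samuel
import Groth.Agent.Lib.CI2.Ops
import Groth.Agent.Lib.KEuler6.Serre

/-!
The multiplicity witness over the power series ring in one variable over a higher double point.
-/

set_option autoImplicit false
set_option linter.unusedSectionVars false
universe u

open MvPowerSeries
open Groth.Agent.HilbSam (relLen relLen_trans)

namespace Groth.Agent.Mult6.HigherDouble

variable (k : Type u) [Field k]

/-- Power series in three variables. -/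
abbrev P3 := MvPowerSeries (Fin 3) k

/-- An exponent. -/
noncomputable def ex3 (a b c : ℕ) : Fin 3 →₀ ℕ := Finsupp.equivFunOnFinite.symm ![a, b, c]

theorem ex3_le {a b c : ℕ} {α : Fin 3 →₀ ℕ} : ex3 a b c ≤ α ↔ a ≤ α 0 ∧ b ≤ α 1 ∧ c ≤ α 2 := by
  constructor
  · intro h
    exact ⟨by simpa [ex3] using h 0, by simpa [ex3] using h 1, by simpa [ex3] using h 2⟩
  · rintro ⟨h0, h1, h2⟩ i
    fin_cases i <;> simpa [ex3]

theorem monomial_ex3 (a b c : ℕ) :
    monomial (ex3 a b c) (1 : k) = (X 0 : P3 k) ^ a * X 1 ^ b * X 2 ^ c := by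
  rw [X_pow_eq, X_pow_eq, X_pow_eq, monomial_mul_monomial, monomial_mul_monomial, one_mul, one_mul]
  congr 1
  refine congrArg (fun e => monomial (R := k) e) ?_
  ext i
  fin_cases i <;> simp [ex3]

/-- The exponents below a predicate. -/
def DSet (P : ℕ → ℕ → ℕ → Prop) : Set (Fin 3 →₀ ℕ) := {α | P (α 0) (α 1) (α 2)}

/-- The standard exponents of the ideal. -/
def PI (a b c : ℕ) : Prop := (a ≤ 1 ∧ b = 0 ∧ c = 0) ∨ (a = 0 ∧ b = 0 ∧ c ≤ 3) ∨ (a = 0 ∧ b = 1 ∧ c ≤ 1)

/-- The standard exponents of the box. -/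
def PJ (a b c : ℕ) : Prop := a ≤ 1 ∧ b ≤ 1 ∧ c ≤ 3

/-- The standard exponents modulo two squares. -/
def PS (a b _c : ℕ) : Prop := a ≤ 1 ∧ b ≤ 1

theorem isLowerSet_PI : IsLowerSet (DSet PI) := fun α β h hα => by
  have h0 := h 0; have h1 := h 1; have h2 := h 2
  simp only [DSet, PI, Set.mem_setOf_eq] at *
  omega

theorem isLowerSet_PJ : IsLowerSet (DSet PJ) := fun α β h hα => by
  have h0 := h 0; have h1 := h 1; have h2 := h 2
  simp only [DSet, PJ, Set.mem_setOf_eq] at *
  omega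

theorem isLowerSet_PS : IsLowerSet (DSet PS) := fun α β h hα => by
  have h0 := h 0; have h1 := h 1
  simp only [DSet, PS, Set.mem_setOf_eq] at *
  omega

theorem ex3_mem {P : ℕ → ℕ → ℕ → Prop} {a b c : ℕ} : ex3 a b c ∈ DSet P ↔ P a b c := by
  simp [DSet, ex3]

/-- The preimage of the ideal. -/
theorem span_PI : Ideal.span {(X 0 ^ 2 : P3 k), X 0 * X 1, X 1 ^ 2, X 0 * X 2, X 1 * X 2 ^ 2, X 2 ^ 4} =
    noCoeff (DSet PI) isLowerSet_PI := by
  rw [← span_eq_noCoeff (G := [ex3 2 0 0, ex3 1 1 0, ex3 0 2 0, ex3 1 0 1, ex3 0 1 2, ex3 0 0 4])]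
  · congr 1
    ext m
    simp only [Set.mem_setOf_eq, List.mem_cons, List.not_mem_nil, or_false, exists_eq_or_imp,
      exists_eq_left, monomial_ex3, Set.mem_insert_iff, Set.mem_singleton_iff, pow_zero, pow_one, one_mul, mul_one]
  · simp only [List.mem_cons, List.not_mem_nil, or_false, forall_eq_or_imp, forall_eq, ex3_mem, PI]
    omega
  · intro α hα
    simp only [List.mem_cons, List.not_mem_nil, or_false, exists_eq_or_imp, exists_eq_left, ex3_le]
    simp only [DSet, PI, Set.mem_setOf_eq] at hα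
    omega

theorem span_PJ : Ideal.span {(X 0 ^ 2 : P3 k), X 1 ^ 2, X 2 ^ 4} = noCoeff (DSet PJ) isLowerSet_PJ := by
  rw [← span_eq_noCoeff (G := [ex3 2 0 0, ex3 0 2 0, ex3 0 0 4])]
  · congr 1
    ext m
    simp only [Set.mem_setOf_eq, List.mem_cons, List.not_mem_nil, or_false, exists_eq_or_imp,
      exists_eq_left, monomial_ex3, Set.mem_insert_iff, Set.mem_singleton_iff, pow_zero, pow_one, one_mul, mul_one]
  · simp only [List.mem_cons, List.not_mem_nil, or_false, forall_eq_or_imp, forall_eq, ex3_mem, PJ]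
    omega
  · intro α hα
    simp only [List.mem_cons, List.not_mem_nil, or_false, exists_eq_or_imp, exists_eq_left, ex3_le]
    simp only [DSet, PJ, Set.mem_setOf_eq] at hα
    omega

theorem span_PS : Ideal.span {(X 0 ^ 2 : P3 k), X 1 ^ 2} = noCoeff (DSet PS) isLowerSet_PS := by
  rw [← span_eq_noCoeff (G := [ex3 2 0 0, ex3 0 2 0])]
  · congr 1
    ext m
    simp only [Set.mem_setOf_eq, List.mem_cons, List.not_mem_nil, or_false, exists_eq_or_imp,
      exists_eq_left, monomial_ex3, Set.mem_insert_iff, Set.mem_singleton_iff, pow_zero, one_mul, mul_one]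
  · simp only [List.mem_cons, List.not_mem_nil, or_false, forall_eq_or_imp, forall_eq, ex3_mem, PS]
    omega
  · intro α hα
    simp only [List.mem_cons, List.not_mem_nil, or_false, exists_eq_or_imp, exists_eq_left, ex3_le]
    simp only [DSet, PS, Set.mem_setOf_eq] at hα
    omega

theorem length_DSet (P : ℕ → ℕ → ℕ → Prop) (hP : IsLowerSet (DSet P)) (L : Finset (ℕ × ℕ × ℕ))
    (hL : ∀ a b c, P a b c ↔ (a, b, c) ∈ L) :
    Module.length (P3 k) (P3 k ⧸ noCoeff (k := k) (DSet P) hP) = (L.card : ℕ∞) := by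
  classical
  let S : Finset (Fin 3 →₀ ℕ) := L.image fun p => ex3 p.1 p.2.1 p.2.2
  have hS : DSet P = (S : Set (Fin 3 →₀ ℕ)) := by
    ext α
    simp only [DSet, Set.mem_setOf_eq, hL, S, Finset.coe_image, Set.mem_image, Finset.mem_coe]
    constructor
    · intro h
      refine ⟨_, h, ?_⟩
      ext i
      fin_cases i <;> simp [ex3]
    · rintro ⟨p, hp, rfl⟩
      simpa [ex3] using hp
  have hcard : S.card = L.card := by
    refine Finset.card_image_of_injective _ fun p q h => ?_
    have h0 := DFunLike.congr_fun h (0 : Fin 3)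
    have h1 := DFunLike.congr_fun h (1 : Fin 3)
    have h2 := DFunLike.congr_fun h (2 : Fin 3)
    simp [ex3] at h0 h1 h2
    exact Prod.ext h0 (Prod.ext h1 h2)
  have hS' : IsLowerSet (S : Set (Fin 3 →₀ ℕ)) := hS ▸ hP
  rw [noCoeff_congr hS (hD' := hS')]
  exact length_quotient_noCoeff L.card S hcard hS'

theorem length_PI : Module.length (P3 k) (P3 k ⧸ noCoeff (k := k) (DSet PI) isLowerSet_PI) = 7 := by
  rw [length_DSet k PI isLowerSet_PI {(0, 0, 0), (1, 0, 0), (0, 0, 1), (0, 0, 2), (0, 0, 3), (0, 1, 0), (0, 1, 1)}]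
  · rfl
  · intro a b c
    simp only [PI, Finset.mem_insert, Finset.mem_singleton, Prod.mk.injEq]
    omega

theorem length_PJ : Module.length (P3 k) (P3 k ⧸ noCoeff (k := k) (DSet PJ) isLowerSet_PJ) = 16 := by
  rw [length_DSet k PJ isLowerSet_PJ {(0, 0, 0), (0, 0, 1), (0, 0, 2), (0, 0, 3), (0, 1, 0), (0, 1, 1), (0, 1, 2),
    (0, 1, 3), (1, 0, 0), (1, 0, 1), (1, 0, 2), (1, 0, 3), (1, 1, 0), (1, 1, 1), (1, 1, 2), (1, 1, 3)}]
  · rfl
  · intro a b c
    constructor
    · rintro ⟨ha, hb, hc⟩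
      interval_cases a <;> interval_cases b <;> interval_cases c <;> decide
    · intro h
      simp only [Finset.mem_insert, Finset.mem_singleton, Prod.mk.injEq] at h
      rcases h with h | h | h | h | h | h | h | h | h | h | h | h | h | h | h | h <;>
        obtain ⟨rfl, rfl, rfl⟩ := h <;> exact ⟨by norm_num, by norm_num, by norm_num⟩

variable (n : ℕ)

/-- The equation. -/
noncomputable abbrev eqn : P3 k := X 0 ^ 2 - X 1 ^ n

/-- The ring. -/
abbrev HD := P3 k ⧸ Ideal.span {eqn k n}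

/-- The quotient map. -/
noncomputable abbrev π : P3 k →+* HD k n := Ideal.Quotient.mk _

theorem length_quotient_map (K : Ideal (P3 k)) (hK : eqn k n ∈ K) :
    Module.length (HD k n) (HD k n ⧸ K.map (π k n)) = Module.length (P3 k) (P3 k ⧸ K) := by
  rw [← Module.length_eq_of_surjective (R := HD k n) (S := P3 k) (M := HD k n ⧸ K.map (π k n))
    Ideal.Quotient.mk_surjective]
  let φ : P3 k →ₗ[P3 k] HD k n ⧸ K.map (π k n) :=
    ((Submodule.mkQ (K.map (π k n) : Submodule (HD k n) (HD k n))).restrictScalars (P3 k)).comp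
      (Algebra.linearMap (P3 k) (HD k n))
  have hφ : Function.Surjective φ := fun y => by
    obtain ⟨z, rfl⟩ := Submodule.mkQ_surjective _ y
    obtain ⟨w, rfl⟩ := Ideal.Quotient.mk_surjective z
    exact ⟨w, rfl⟩
  have hker : LinearMap.ker φ = (K : Submodule (P3 k) (P3 k)) := by
    ext w
    show (Submodule.Quotient.mk (π k n w) : HD k n ⧸ K.map (π k n)) = 0 ↔ _
    rw [Submodule.Quotient.mk_eq_zero, ← Ideal.mem_comap,
      Ideal.comap_map_of_surjective _ Ideal.Quotient.mk_surjective, ← RingHom.ker_eq_comap_bot, Ideal.mk_ker,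
      sup_eq_left.2 ((Ideal.span_singleton_le_iff_mem _).2 hK)]
  exact ((Submodule.quotEquivOfEq _ _ hker.symm).trans (φ.quotKerEquivOfSurjective hφ)).length_eq.symm

variable {k n} (hn : 3 ≤ n)

include hn in
theorem eqn_mem {K : Ideal (P3 k)} (hx : (X 0 ^ 2 : P3 k) ∈ K) (hy : (X 1 ^ 2 : P3 k) ∈ K) : eqn k n ∈ K := by
  refine K.sub_mem hx ?_
  rw [show n = 2 + (n - 2) by omega, pow_add]
  exact K.mul_mem_right _ hy

theorem smul_top_eq {A : Type u} [CommRing A] (J : Ideal A) : J • (⊤ : Submodule A A) = J := by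
  rw [smul_eq_mul]; exact Ideal.mul_top J

variable (k n)

/-- The images of the variables. -/
noncomputable abbrev v (i : Fin 3) : HD k n := π k n (X i)

/-- The ideal. -/
noncomputable abbrev II : Ideal (HD k n) :=
  Ideal.map (π k n) (Ideal.span {(X 0 ^ 2 : P3 k), X 0 * X 1, X 1 ^ 2, X 0 * X 2, X 1 * X 2 ^ 2, X 2 ^ 4})

/-- The reduction. -/
noncomputable abbrev JJ : Ideal (HD k n) := Ideal.ofList [v k n 1 ^ 2, v k n 2 ^ 4]

variable {k n}

theorem v_sq : v k n 0 ^ 2 = v k n 1 ^ n := by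
  rw [← sub_eq_zero]
  show π k n (X 0) ^ 2 - π k n (X 1) ^ n = 0
  rw [← map_pow, ← map_pow, ← map_sub]
  exact Ideal.Quotient.eq_zero_iff_mem.2 (Ideal.mem_span_singleton_self _)

theorem II_eq : II k n = Ideal.span {v k n 0 ^ 2, v k n 0 * v k n 1, v k n 1 ^ 2, v k n 0 * v k n 2,
    v k n 1 * v k n 2 ^ 2, v k n 2 ^ 4} := by
  show Ideal.map _ _ = _
  rw [Ideal.map_span]
  simp only [Set.image_insert_eq, Set.image_singleton, map_pow, map_mul]

theorem JJ_le_II : JJ k n ≤ II k n := by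
  rw [II_eq]
  show Ideal.span {r : HD k n | r ∈ [v k n 1 ^ 2, v k n 2 ^ 4]} ≤ _
  rw [Ideal.span_le]
  intro a ha
  simp only [Set.mem_setOf_eq, List.mem_cons, List.not_mem_nil, or_false] at ha
  rcases ha with rfl | rfl <;> exact Ideal.subset_span (by simp)

set_option maxHeartbeats 1600000 in
include hn in
theorem II_cube_le : II k n * II k n * II k n ≤ JJ k n * (II k n * II k n) := by
  set x := v k n 0
  set y := v k n 1
  set t := v k n 2
  set I := II k n with hI
  set J := JJ k n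
  have hyI : y ^ 2 ∈ I := by rw [hI, II_eq]; exact Ideal.subset_span (by simp [x, y, t])
  have htI : t ^ 4 ∈ I := by rw [hI, II_eq]; exact Ideal.subset_span (by simp [x, y, t])
  have hytI : y * t ^ 2 ∈ I := by rw [hI, II_eq]; exact Ideal.subset_span (by simp [x, y, t])
  have hxtI : x * t ∈ I := by rw [hI, II_eq]; exact Ideal.subset_span (by simp [x, y, t])
  have hyJ : y ^ 2 ∈ J := Ideal.subset_span (by simp [y])
  obtain ⟨m, rfl⟩ : ∃ m, n = m + 3 := ⟨n - 3, by omega⟩
  have hsq : x ^ 2 = y ^ (m + 3) := v_sq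
  have p1 : x * y * (x * y) ∈ J * I := by
    rw [show x * y * (x * y) = y ^ 2 * (y ^ 2 * y ^ (m + 1)) by linear_combination y ^ 2 * hsq]
    exact Ideal.mul_mem_mul hyJ (I.mul_mem_right _ hyI)
  have p2 : x * y * (x * t) ∈ J * I := by
    rw [show x * y * (x * t) = y ^ 2 * (y ^ 2 * (y ^ m * t)) by linear_combination y * t * hsq]
    exact Ideal.mul_mem_mul hyJ (I.mul_mem_right _ hyI)
  have p3 : x * t * (x * t) ∈ J * I := by
    rw [show x * t * (x * t) = y ^ 2 * (y * t ^ 2 * y ^ m) by linear_combination t ^ 2 * hsq]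
    exact Ideal.mul_mem_mul hyJ (I.mul_mem_right _ hytI)
  have p4 : x * y * (y * t ^ 2) ∈ J * I := by
    rw [show x * y * (y * t ^ 2) = y ^ 2 * (x * t * t) by ring]
    exact Ideal.mul_mem_mul hyJ (I.mul_mem_right _ hxtI)
  have p5 : y * t ^ 2 * (y * t ^ 2) ∈ J * I := by
    rw [show y * t ^ 2 * (y * t ^ 2) = y ^ 2 * t ^ 4 by ring]
    exact Ideal.mul_mem_mul hyJ htI
  have hle : J * I * I ≤ J * (I * I) := (mul_assoc J I I).le
  set E : Ideal (HD k (m + 3)) := Ideal.span {x * y, x * t, y * t ^ 2}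
  have hEI : E ≤ I := by
    rw [hI, II_eq]
    exact Ideal.span_mono (by intro a; simp only [Set.mem_insert_iff, Set.mem_singleton_iff, x, y, t]; tauto)
  have hIE : I ≤ J ⊔ E := by
    rw [hI, II_eq, Ideal.span_le]
    intro a ha
    simp only [Set.mem_insert_iff, Set.mem_singleton_iff] at ha
    rcases ha with rfl | rfl | rfl | rfl | rfl | rfl
    · have e : x ^ 2 = y ^ 2 * y ^ (m + 1) := by rw [hsq, ← pow_add]; congr 1; omega
      exact Ideal.mem_sup_left (show x ^ 2 ∈ J from e ▸ J.mul_mem_right _ hyJ)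
    · exact Ideal.mem_sup_right (Ideal.subset_span (Or.inl rfl))
    · exact Ideal.mem_sup_left hyJ
    · exact Ideal.mem_sup_right (Ideal.subset_span (Or.inr (Or.inl rfl)))
    · exact Ideal.mem_sup_right (Ideal.subset_span (Or.inr (Or.inr rfl)))
    · exact Ideal.mem_sup_left (Ideal.subset_span (by simp [t]))
  have hEEE : E * E * E ≤ J * (I * I) := by
    refine le_trans ?_ hle
    rw [Ideal.span_mul_span', Ideal.span_mul_span', Ideal.span_le]
    rintro _ ⟨_, ⟨a, ha, b, hb, rfl⟩, c, hc, rfl⟩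
    simp only [Set.mem_insert_iff, Set.mem_singleton_iff] at ha hb hc
    simp only [SetLike.mem_coe]
    have hcI : c ∈ I := hEI (Ideal.subset_span (by simpa using hc))
    have haI : a ∈ I := hEI (Ideal.subset_span (by simpa using ha))
    have hbI : b ∈ I := hEI (Ideal.subset_span (by simpa using hb))
    have g : ∀ {p q r : HD k (m + 3)}, p * q ∈ J * I → r ∈ I → p * q * r ∈ J * I * I :=
      fun h h' => Ideal.mul_mem_mul h h'
    rcases ha with rfl | rfl | rfl <;> rcases hb with rfl | rfl | rfl <;>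
      first
        | exact g p1 hcI
        | exact g p2 hcI
        | exact g p3 hcI
        | exact g p4 hcI
        | exact g p5 hcI
        | exact g (mul_comm (x * y) (x * t) ▸ p2) hcI
        | exact g (mul_comm (x * y) (y * t ^ 2) ▸ p4) hcI
        | (rcases hc with rfl | rfl | rfl
           · first
               | (rw [show x * t * (y * t ^ 2) * (x * y) = x * y * (x * t) * (y * t ^ 2) by ring]; exact g p2 hytI)
               | (rw [show y * t ^ 2 * (x * t) * (x * y) = x * y * (x * t) * (y * t ^ 2) by ring]; exact g p2 hytI)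
           · first
               | (rw [show x * t * (y * t ^ 2) * (x * t) = x * t * (x * t) * (y * t ^ 2) by ring]; exact g p3 hytI)
               | (rw [show y * t ^ 2 * (x * t) * (x * t) = x * t * (x * t) * (y * t ^ 2) by ring]; exact g p3 hytI)
           · first
               | (rw [show x * t * (y * t ^ 2) * (y * t ^ 2) = y * t ^ 2 * (y * t ^ 2) * (x * t) by ring]; exact g p5 hxtI)
               | (rw [show y * t ^ 2 * (x * t) * (y * t ^ 2) = y * t ^ 2 * (y * t ^ 2) * (x * t) by ring]; exact g p5 hxtI))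
  have hJI : J ≤ I := JJ_le_II
  calc I * I * I ≤ I * I * (J ⊔ E) := Ideal.mul_mono le_rfl hIE
    _ = I * I * J ⊔ I * I * E := Ideal.mul_sup _ _ _
    _ ≤ J * (I * I) := sup_le (mul_comm (I * I) J).le ?_
  calc I * I * E ≤ I * (J ⊔ E) * E := Ideal.mul_mono (Ideal.mul_mono le_rfl hIE) le_rfl
    _ = I * J * E ⊔ I * E * E := by rw [Ideal.mul_sup, Ideal.sup_mul]
    _ ≤ J * (I * I) := sup_le ?_ ?_
  · rw [mul_comm I J, mul_assoc]
    exact Ideal.mul_mono le_rfl (Ideal.mul_mono le_rfl hEI)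
  · calc I * E * E ≤ (J ⊔ E) * E * E := Ideal.mul_mono (Ideal.mul_mono hIE le_rfl) le_rfl
      _ = J * E * E ⊔ E * E * E := by rw [Ideal.sup_mul, Ideal.sup_mul]
      _ ≤ J * (I * I) := sup_le ((mul_assoc J E E).le.trans (Ideal.mul_mono le_rfl (Ideal.mul_mono hEI hEI))) hEEE

include hn in
theorem pow_II_le : ∀ m : ℕ, II k n ^ (m + 2) ≤ JJ k n ^ m * II k n ^ 2
  | 0 => by simp
  | m + 1 => by
    calc II k n ^ (m + 1 + 2) = II k n ^ (m + 2) * II k n := Submodule.pow_succ _
      _ ≤ JJ k n ^ m * II k n ^ 2 * II k n := Ideal.mul_mono (pow_II_le m) le_rfl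
      _ = JJ k n ^ m * (II k n * II k n * II k n) := by rw [mul_assoc, sq]
      _ ≤ JJ k n ^ m * (JJ k n * (II k n * II k n)) := Ideal.mul_mono le_rfl (II_cube_le hn)
      _ = _ := by rw [← mul_assoc, Submodule.pow_succ (M := JJ k n), sq]

theorem X_one_dvd {g : P3 k} (h : (X 1 : P3 k) ∣ X 0 ^ 2 * g) : (X 1 : P3 k) ∣ g := by
  rw [X_dvd_iff] at h ⊢
  intro m hm
  have h' := h (Finsupp.single 0 2 + m) (by simp [hm])
  rwa [X_pow_eq, coeff_add_monomial_mul, one_mul] at h'

theorem eq_mul_of_mul_sq (hn1 : 1 ≤ n) {f g : P3 k} (h : X 1 * f = eqn k n * g) :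
    ∃ g', f = eqn k n * g' := by
  have hd : (X 1 : P3 k) ∣ g := X_one_dvd ⟨f + X 1 ^ (n - 1) * g, by
    rw [mul_add, h, ← mul_assoc, ← pow_succ', Nat.sub_add_cancel hn1]; ring⟩
  obtain ⟨g', rfl⟩ := hd
  refine ⟨g', mul_left_cancel₀ (fun e => ?_) (h.trans (by ring) : X 1 * f = X 1 * (eqn k n * g'))⟩
  have := congrArg (coeff (Finsupp.single (1 : Fin 3) 1)) e
  rw [coeff_X, if_pos rfl, map_zero] at this
  exact one_ne_zero this

include hn in
theorem isWeaklyRegular_pair : RingTheory.Sequence.IsWeaklyRegular (HD k n) [v k n 1 ^ 2, v k n 2 ^ 4] := by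
  rw [RingTheory.Sequence.isWeaklyRegular_cons_iff, RingTheory.Sequence.isWeaklyRegular_cons_iff]
  refine ⟨isSMulRegular_iff_right_eq_zero_of_smul.2 fun z hz => ?_,
    isSMulRegular_iff_right_eq_zero_of_smul.2 fun z hz => ?_, RingTheory.Sequence.IsWeaklyRegular.nil _ _⟩
  · obtain ⟨f, rfl⟩ := Ideal.Quotient.mk_surjective z
    rw [smul_eq_mul, ← map_pow, ← map_mul, Ideal.Quotient.eq_zero_iff_mem, Ideal.mem_span_singleton] at hz
    obtain ⟨g, hg⟩ := hz
    rw [sq, mul_assoc] at hg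
    obtain ⟨g₁, hg₁⟩ := eq_mul_of_mul_sq (by omega) hg
    obtain ⟨g₂, hg₂⟩ := eq_mul_of_mul_sq (by omega) hg₁
    rw [Ideal.Quotient.eq_zero_iff_mem, Ideal.mem_span_singleton]
    exact ⟨g₂, hg₂⟩
  · obtain ⟨z, rfl⟩ := Submodule.mkQ_surjective _ z
    rw [← map_smul, Submodule.mkQ_apply, Submodule.Quotient.mk_eq_zero,
      Submodule.mem_smul_pointwise_iff_exists] at hz
    obtain ⟨w, -, hw⟩ := hz
    obtain ⟨f, rfl⟩ := Ideal.Quotient.mk_surjective z
    obtain ⟨g, rfl⟩ := Ideal.Quotient.mk_surjective w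
    simp only [smul_eq_mul, ← map_pow, ← map_mul] at hw
    rw [Ideal.Quotient.mk_eq_mk_iff_sub_mem] at hw
    set K := Ideal.span {(X 0 ^ 2 : P3 k), X 1 ^ 2} with hK
    have hmem : (X 2 ^ 4 : P3 k) * f ∈ K := by
      have h1 := K.mul_mem_right g (Ideal.subset_span (by simp) : (X 1 ^ 2 : P3 k) ∈ K)
      have h2 : (X 1 ^ 2 * g - X 2 ^ 4 * f : P3 k) ∈ K :=
        (Ideal.span_singleton_le_iff_mem _).2 (eqn_mem hn (Ideal.subset_span (by simp)) (Ideal.subset_span (by simp))) hw
      simpa using K.sub_mem h1 h2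
    have hf : f ∈ K := by
      rw [hK, span_PS] at hmem ⊢
      intro α hα
      have h := hmem (Finsupp.single 2 4 + α) (show PS ((Finsupp.single (2 : Fin 3) 4 + α : Fin 3 →₀ ℕ) 0)
        ((Finsupp.single (2 : Fin 3) 4 + α : Fin 3 →₀ ℕ) 1) ((Finsupp.single (2 : Fin 3) 4 + α : Fin 3 →₀ ℕ) 2) by simpa [PS, DSet] using hα)
      rwa [X_pow_eq, coeff_add_monomial_mul, one_mul] at h
    rw [Submodule.mkQ_apply, Submodule.Quotient.mk_eq_zero, Submodule.mem_smul_pointwise_iff_exists]
    obtain ⟨a, b, hab⟩ := Ideal.mem_span_pair.1 (hK ▸ hf)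
    refine ⟨π k n a * v k n 1 ^ (n - 2) + π k n b, trivial, ?_⟩
    rw [← hab, map_add, map_mul, map_mul, map_pow, map_pow, smul_eq_mul]
    show _ = π k n a * v k n 0 ^ 2 + π k n b * v k n 1 ^ 2
    rw [v_sq]
    have e : v k n 1 ^ n = v k n 1 ^ 2 * v k n 1 ^ (n - 2) := by rw [← pow_add]; congr 1; omega
    rw [e]
    ring

include hn in
theorem length_JJ : Module.length (HD k n) (HD k n ⧸ JJ k n) = 16 := by
  have e : JJ k n = (Ideal.span {(X 0 ^ 2 : P3 k), X 1 ^ 2, X 2 ^ 4}).map (π k n) := by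
    rw [Ideal.map_span]
    simp only [Set.image_insert_eq, Set.image_singleton, map_pow]
    refine le_antisymm ?_ (Ideal.span_le.2 ?_)
    · rw [JJ, Ideal.ofList]
      exact Ideal.span_mono (by intro a ha; simp at ha ⊢; tauto)
    · intro a ha
      simp only [Set.mem_insert_iff, Set.mem_singleton_iff] at ha
      rcases ha with rfl | rfl | rfl
      · show v k n 0 ^ 2 ∈ JJ k n
        rw [v_sq, show n = 2 + (n - 2) by omega, pow_add]
        exact Ideal.mul_mem_right _ _ (Ideal.subset_span (by simp))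
      · exact Ideal.subset_span (by simp)
      · exact Ideal.subset_span (by simp)
  have key : ∀ K K' : Ideal (HD k n), K = K' →
      Module.length (HD k n) (HD k n ⧸ K) = Module.length (HD k n) (HD k n ⧸ K') := by rintro _ _ rfl; rfl
  rw [key _ _ e, length_quotient_map k n _ (eqn_mem hn (Ideal.subset_span (by simp)) (Ideal.subset_span (by simp))),
    span_PJ, length_PJ]

include hn in
theorem main : Module.length (HD k n) (HD k n ⧸ II k n) = 7 ∧
    Filter.Tendsto (fun m : ℕ => (2 : ℝ) * ((Module.length (HD k n) (HD k n ⧸ II k n ^ m)).toNat : ℝ) / (m : ℝ) ^ 2)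
      Filter.atTop (nhds 16) := by
  refine ⟨?_, ?_⟩
  · rw [II, length_quotient_map k n _ (eqn_mem hn (Ideal.subset_span (by simp)) (Ideal.subset_span (by simp))),
      span_PI, length_PI]
  set l := [v k n 1 ^ 2, v k n 2 ^ 4] with hl
  have hfl : KEuler6.FL (HD k n) (HD k n) l := by
    rw [KEuler6.FL_iff, ← Module.length_ne_top_iff, smul_top_eq]
    show Module.length (HD k n) (HD k n ⧸ JJ k n) ≠ ⊤
    rw [length_JJ hn]
    exact ENat.natCast_ne_top 16
  have hchi : KEuler6.chi (HD k n) (HD k n) l = 16 := by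
    have hz : ∀ i, KEuler6.hl (HD k n) (HD k n) l (i + 1) = 0 := fun i =>
      KEuler6.relLen_eq_zero_of_le fun z hz =>
        CI2.ex_of_isWeaklyRegular l (HD k n) (isWeaklyRegular_pair hn) i z (LinearMap.mem_ker.1 hz)
    rw [KEuler6.chi, KEuler6.chiN, Finset.sum_range_succ', Finset.sum_eq_zero fun i _ => by
      rw [hz i, ENat.toNat_zero, Nat.cast_zero, mul_zero], zero_add, pow_zero, one_mul, KEuler6.hl_zero, smul_top_eq]
    show ((Module.length (HD k n) (HD k n ⧸ JJ k n)).toNat : ℤ) = 16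
    rw [length_JJ hn]
    rfl
  have hfinJ : ∀ m, Module.length (HD k n) (HD k n ⧸ JJ k n ^ m) ≠ ⊤ := fun m => by
    rw [← smul_top_eq (JJ k n ^ m)]
    exact HilbSam.length_quotient_pow_ne_top ((KEuler6.FL_iff _ _ l).1 hfl) m
  have h1 := KEuler6.tendsto_hs (HD k n) (HD k n) hfl
  rw [hchi] at h1
  have h2 : Filter.Tendsto (fun m : ℕ => ((Module.length (HD k n) (HD k n ⧸ JJ k n ^ m)).toNat : ℝ) / (m : ℝ) ^ 2)
      Filter.atTop (nhds 8) := by
    have h16 : ((16 : ℤ) : ℝ) / ((2 : ℕ).factorial : ℝ) = 8 := by norm_num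
    rw [show l.length = 2 from rfl, h16] at h1
    refine h1.congr fun m => ?_
    unfold HilbSam.hs
    rw [smul_top_eq]
  have hup : ∀ m, (Module.length (HD k n) (HD k n ⧸ II k n ^ m)).toNat ≤
      (Module.length (HD k n) (HD k n ⧸ JJ k n ^ m)).toNat := fun m =>
    ENat.toNat_le_toNat (Module.length_le_of_surjective (Submodule.factor (Ideal.pow_right_mono JJ_le_II m))
      (Submodule.factor_surjective _)) (hfinJ m)
  have hfinI : ∀ m, Module.length (HD k n) (HD k n ⧸ II k n ^ m) ≠ ⊤ := fun m =>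
    ne_top_of_le_ne_top (hfinJ m) (Module.length_le_of_surjective (Submodule.factor (Ideal.pow_right_mono JJ_le_II m))
      (Submodule.factor_surjective _))
  have hlow : ∀ m, 2 ≤ m → (Module.length (HD k n) (HD k n ⧸ JJ k n ^ (m - 2))).toNat ≤
      (Module.length (HD k n) (HD k n ⧸ II k n ^ m)).toNat := fun m hm => by
    have hle : II k n ^ m ≤ JJ k n ^ (m - 2) := by
      have := pow_II_le (k := k) hn (m - 2)
      rw [Nat.sub_add_cancel hm] at this
      exact this.trans Ideal.mul_le_left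
    exact ENat.toNat_le_toNat (Module.length_le_of_surjective (Submodule.factor hle)
      (Submodule.factor_surjective _)) (hfinI m)
  have hshift : Filter.Tendsto (fun m : ℕ => ((Module.length (HD k n) (HD k n ⧸ JJ k n ^ (m - 2))).toNat : ℝ) / (m : ℝ) ^ 2)
      Filter.atTop (nhds 8) := by
    have ha := h2.comp (Filter.tendsto_sub_atTop_nat 2)
    have hb : Filter.Tendsto (fun m : ℕ => (((m - 2 : ℕ) : ℝ) / (m : ℝ)) ^ 2) Filter.atTop (nhds 1) := by
      have hb' : Filter.Tendsto (fun m : ℕ => 1 - 2 / (m : ℝ)) Filter.atTop (nhds 1) := by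
        simpa using tendsto_const_nhds.sub (tendsto_const_div_atTop_nhds_zero_nat (2 : ℝ))
      refine Filter.Tendsto.congr' ?_ (by simpa using hb'.pow 2)
      filter_upwards [Filter.eventually_ge_atTop 2] with m hm
      rw [Nat.cast_sub hm, sub_div, div_self (by positivity)]
      push_cast
      ring
    refine Filter.Tendsto.congr' ?_ (by simpa using ha.mul hb)
    filter_upwards [Filter.eventually_ge_atTop 3] with m hm
    have h' : ((m - 2 : ℕ) : ℝ) ≠ 0 := by exact_mod_cast (show m - 2 ≠ 0 by omega)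
    field_simp
  have hlim : Filter.Tendsto (fun m : ℕ => ((Module.length (HD k n) (HD k n ⧸ II k n ^ m)).toNat : ℝ) / (m : ℝ) ^ 2)
      Filter.atTop (nhds 8) := by
    refine tendsto_of_tendsto_of_tendsto_of_le_of_le' hshift h2 ?_ ?_
    · filter_upwards [Filter.eventually_ge_atTop 2] with m hm
      exact div_le_div_of_nonneg_right (by exact_mod_cast hlow m hm) (by positivity)
    · filter_upwards with m
      exact div_le_div_of_nonneg_right (by exact_mod_cast hup m) (by positivity)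
  have h3 := hlim.const_mul (2 : ℝ)
  norm_num at h3
  simpa only [mul_div_assoc] using h3

end Groth.Agent.Mult6.HigherDouble
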